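import Cfsg.Agent.H155.TI.Grp
import Cfsg.Agent.Characters.Ito
import Cfsg.Agent.S4558
import Cfsg.Agent.H692.RealOver

/-!
# Row `PSL₃(4)` of S4819, S4820, piece P2 : characters of `M ≤ N(P)` do not vanish at `x` (helper41)
-/

set_option autoImplicit false

open Cfsg Cfsg.Agent.Characters.Core

namespace Cfsg.Agent.H41.TI

open Cfsg.Agent.H155.TI (Frame)

universe u

variable {Γ : Type u} [Group Γ] [Finite Γ] {Z L P H : Subgroup Γ} {x d a b : Γ}

theorem nvN (F : Frame Z L P H x d a b) {M : Subgroup Γ} (hPM : P ≤ M) (hMN : M ≤ Subgroup.normalizer (P : Set Γ))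
    (χ : IrrCharacter M) : (χ : M → ℂ) ⟨x, hPM F.xP⟩ ≠ 0 := by
  intro h0
  have hnorm : (P.subgroupOf M).Normal := by
    refine ⟨fun n hn g => ?_⟩
    rw [Subgroup.mem_subgroupOf] at hn ⊢
    exact (Subgroup.mem_normalizer_iff.1 (hMN g.2) n).1 hn
  have hab : ∀ y ∈ P.subgroupOf M, ∀ z ∈ P.subgroupOf M, y * z = z * y := by
    intro y hy z hz
    rw [Subgroup.mem_subgroupOf] at hy hz
    exact Subtype.ext (F.comm_P hy hz)
  obtain ⟨n, ρ, hρ, hχ⟩ := χ.2
  have h1 : ρ.character 1 = (Module.finrank ℂ (Fin n → ℂ) : ℂ) := Representation.char_one ρ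
  have := hρ
  have h2 := Characters.Ito.finrank_dvd_index ρ (P.subgroupOf M) hab
  have hord : orderOf (⟨x, hPM F.xP⟩ : M) = 3 := by
    rw [← Subgroup.orderOf_coe]
    exact orderOf_eq_prime (F.P3 x F.xP) F.x1
  have : Fact (Nat.Prime 3) := ⟨Nat.prime_three⟩
  have h3 := S4558.result 3 (χ : M → ℂ) (isIrr_isCharacter χ.2) ⟨x, hPM F.xP⟩ ⟨1, by rw [hord, pow_one]⟩ h0
  have h4 : charDegree (χ : M → ℂ) = Module.finrank ℂ (Fin n → ℂ) := by
    rw [← hχ]
    exact H692.RealOver.charDegree_eq_of h1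
  rw [h4] at h3
  apply F.Pidx
  have h5 : P.relIndex M * M.index = P.index := Subgroup.relIndex_mul_index hPM
  rw [← h5]
  exact (h3.trans h2).mul_right _

end Cfsg.Agent.H41.TI
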