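import Cfsg.Agent.H41.TI.Clif
import Cfsg.Agent.H155.TI.Grp
import Cfsg.Agent.H407.TI.L34L

/-!
# Row `PSL₃(4)` of S4819, S4820, piece P3 : transports (helper41)
-/

set_option autoImplicit false

open scoped ComplexConjugate
open Cfsg Cfsg.Agent.Characters.Core

namespace Cfsg.Agent.H41.TI

open Cfsg.Agent.H155.TI (Over nz Pair Inv Six Frame LSit CenSit)

universe u

/-- transport of characters along an isomorphism -/
noncomputable def ce {W W' : Type u} [Group W] [Group W'] (e : W ≃* W') : IrrCharacter W' ≃ IrrCharacter W where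
  toFun ψ := ⟨(ψ : W' → ℂ) ∘ e, isIrr_comp e.toMonoidHom e.surjective ψ.2⟩
  invFun η := ⟨(η : W → ℂ) ∘ e.symm, isIrr_comp e.symm.toMonoidHom e.symm.surjective η.2⟩
  left_inv ψ := Subtype.ext (funext fun n => congrArg (ψ : W' → ℂ) (e.apply_symm_apply n))
  right_inv η := Subtype.ext (funext fun a => congrArg (η : W → ℂ) (e.symm_apply_apply a))

theorem ce_apply {W W' : Type u} [Group W] [Group W'] (e : W ≃* W') (ψ : IrrCharacter W') (w : W) :
    (ce e ψ : W → ℂ) w = (ψ : W' → ℂ) (e w) := rfl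

theorem over_ce {W W' : Type u} [Group W] [Group W'] (e : W ≃* W') {Z Z' : Type u} [Group Z] [Group Z'] (f : Z ≃* Z')
    (j : Z →* W) (j' : Z' →* W') (hj : ∀ z, e (j z) = j' (f z)) (lam : Z →* ℂˣ) (lam' : Z' →* ℂˣ)
    (hl : ∀ z, lam' (f z) = lam z) (ψ : IrrCharacter W') :
    Over j' lam' (ψ : W' → ℂ) ↔ Over j lam (ce e ψ : W → ℂ) := by
  constructor
  · intro h z w
    rw [ce_apply, ce_apply, map_mul, hj, h, hl]
  · intro h z' w'
    obtain ⟨z, rfl⟩ := f.surjective z'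
    obtain ⟨w, rfl⟩ := e.surjective w'
    have h1 := h z w
    rw [ce_apply, ce_apply, map_mul, hj] at h1
    rw [h1, hl]

theorem nz_equiv {W W' : Type u} [Group W] [Group W'] (e : W ≃* W') {Z : Type u} [Group Z] (j : Z →* W) (lam : Z →* ℂˣ) (x : W) :
    nz (e.toMonoidHom.comp j) lam (e x) = nz j lam x := by
  unfold nz
  refine Nat.card_congr (Equiv.subtypeEquiv (ce e) fun ψ => ?_)
  rw [over_ce e (MulEquiv.refl Z) j (e.toMonoidHom.comp j) (fun _ => rfl) lam lam (fun _ => rfl) ψ]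
  rfl

theorem six_equiv {A A' : Type u} [Group A] [Group A'] (e : A ≃* A') {Z Z' : Type u} [Group Z] [Group Z'] (f : Z ≃* Z') (j : Z →* A)
    (j' : Z' →* A') (hj : ∀ z, e (j z) = j' (f z)) (lam : Z →* ℂˣ) (lam' : Z' →* ℂˣ) (hl : ∀ z, lam' (f z) = lam z) (x : A)
    (h : Six j lam x) : Six j' lam' (e x) := by
  have ho := over_ce e f j j' hj lam lam' hl
  refine ⟨fun η hη => ?_, ?_, ?_⟩
  · exact h.int (ce e η) ((ho η).1 hη)
  · refine Eq.trans ?_ h.five
    refine Nat.card_congr (Equiv.subtypeEquiv (ce e) fun ψ => ?_)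
    rw [ho ψ]
    rfl
  · refine Eq.trans ?_ h.one
    refine Nat.card_congr (Equiv.subtypeEquiv (ce e) fun ψ => ?_)
    rw [ho ψ]
    rfl

variable {Γ : Type u} [Group Γ] {Z L P H : Subgroup Γ} {x d a b : Γ}

theorem sixG [Finite Γ] (F : Frame Z L P H x d a b) (hL : ∃ _ : (Z.subgroupOf L).Normal, LSit L (Z.subgroupOf L)) (lam : Z →* ℂˣ)
    (hZ : Z ≤ L ⊓ ⊤) (hx : x ∈ L ⊓ ⊤) : Six (Subgroup.inclusion hZ) lam ⟨x, hx⟩ := by
  obtain ⟨hn, hLs⟩ := hL
  let f : (Z.subgroupOf L) ≃* Z := Subgroup.subgroupOfEquivOfLe F.ZL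
  let e : L ≃* (L ⊓ ⊤ : Subgroup Γ) :=
    { toFun := fun l => ⟨l, l.2, trivial⟩
      invFun := fun l => ⟨l, l.2.1⟩
      left_inv := fun _ => rfl
      right_inv := fun _ => rfl
      map_mul' := fun _ _ => rfl }
  have hxL : x ∈ L := F.PL F.xP
  have hord : orderOf (⟨x, hxL⟩ : L) = 3 := by
    rw [← Subgroup.orderOf_coe]
    exact orderOf_eq_prime (F.P3 x F.xP) F.x1
  have h1 := (H407.TI.goalSix L (Z.subgroupOf L) hLs (lam.comp f.toMonoidHom) ⟨x, hxL⟩ hord).1
  exact six_equiv e f (Z.subgroupOf L).subtype (Subgroup.inclusion hZ) (fun z => rfl) (lam.comp f.toMonoidHom) lam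
    (fun z => rfl) ⟨x, hxL⟩ h1

theorem lsit {Γ : Type u} [Group Γ] [Finite Γ] (Z : Subgroup Γ) [Z.Normal] (P : Sylow 3 Γ) (S : Subgroup (Γ ⧸ Z))
    (h : CenSit Z P S) : ∃ _ : (Z.subgroupOf (S.comap (QuotientGroup.mk' Z))).Normal,
      LSit (S.comap (QuotientGroup.mk' Z)) (Z.subgroupOf (S.comap (QuotientGroup.mk' Z))) := by
  have hle : Z ≤ S.comap (QuotientGroup.mk' Z) := by
    intro z hz
    rw [Subgroup.mem_comap]
    have h1 : (QuotientGroup.mk' Z) z = 1 := (QuotientGroup.eq_one_iff z).2 hz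
    rw [h1]
    exact one_mem S
  refine ⟨inferInstance, ?_, ?_, ?_⟩
  · intro z hz
    rw [Subgroup.mem_center_iff]
    intro g
    apply Subtype.ext
    exact Subgroup.mem_center_iff.1 (h.cen (Subgroup.mem_subgroupOf.1 hz)) g
  · rw [Nat.card_congr (Subgroup.subgroupOfEquivOfLe hle).toEquiv]
    exact h.z3
  · obtain ⟨F, hF, hF', hc, ⟨e⟩⟩ := h.iso
    refine ⟨F, hF, hF', hc, ⟨?_⟩⟩
    refine MulEquiv.trans ?_ e
    let φ : (S.comap (QuotientGroup.mk' Z)) →* S :=
      { toFun := fun g => ⟨(QuotientGroup.mk' Z) g, g.2⟩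
        map_one' := Subtype.ext (map_one _)
        map_mul' := fun a b => Subtype.ext (map_mul _ _ _) }
    have hφ : Function.Surjective φ := by
      rintro ⟨s, hs⟩
      obtain ⟨g, rfl⟩ := QuotientGroup.mk'_surjective Z s
      exact ⟨⟨g, hs⟩, rfl⟩
    have hker : φ.ker = Z.subgroupOf (S.comap (QuotientGroup.mk' Z)) := by
      ext g
      rw [MonoidHom.mem_ker, Subgroup.mem_subgroupOf, ← QuotientGroup.eq_one_iff]
      constructor
      · intro h1
        exact congrArg Subtype.val h1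
      · intro h1
        exact Subtype.ext h1
    exact (QuotientGroup.quotientMulEquivOfEq hker.symm).trans (QuotientGroup.quotientKerEquivOfSurjective φ hφ)

end Cfsg.Agent.H41.TI
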