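import Cfsg.Agent.H41.TI.Gen
import Cfsg.Agent.H155.TI.Defs
import Cfsg.Agent.CharactersDeep.Extraspecial

/-!
# Row `PSL₃(4)` of S4819, S4820, piece a : index two Clifford theory (helper41, task 5827)
-/

set_option autoImplicit false

open scoped ComplexConjugate
open Cfsg Cfsg.Agent.Characters.Core Cfsg.Agent.Characters.Clifford
open Cfsg.Agent.HKS.CosetTwo (sg sg_of_mem sg_of_notMem isIrr_mul_sg)

namespace Cfsg.Agent.H41.TI

open Cfsg.Agent.H155.TI (Over nz Pair Inv)
open Cfsg.Agent.H41.McLTwo.Cliff (Van card_ext eq_or_of_restrict restrict_of_not_van)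

universe u

/-- a central element acts as a scalar of absolute value 1 -/
theorem exists_scal {G : Type u} [Group G] [Finite G] {χ : G → ℂ} (hχ : IsIrrCharacter G χ) {s : G}
    (hs : ∀ g, s * g = g * s) : ∃ ω : ℂ, conj ω * ω = 1 ∧ ∀ g, χ (s * g) = ω * χ g := by
  obtain ⟨c, hc, -⟩ := CharactersDeep.Extraspecial.exists_central_hom hχ
  have hsc : s ∈ Subgroup.center G := Subgroup.mem_center_iff.2 fun g => (hs g).symm
  refine ⟨c ⟨s, hsc⟩, ?_, fun g => ?_⟩
  · have h1 : (c ⟨s, hsc⟩) ^ Nat.card (Subgroup.center G) = 1 := by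
      rw [← map_pow, pow_card_eq_one', map_one]
    have h2 : ((c ⟨s, hsc⟩ : ℂˣ) : ℂ) ^ Nat.card (Subgroup.center G) = 1 := by
      rw [← Units.val_pow_eq_pow_val, h1, Units.val_one]
    have h3 := Complex.norm_eq_one_of_pow_eq_one h2 Nat.card_pos.ne'
    rw [mul_comm, Complex.mul_conj, Complex.normSq_eq_norm_sq, h3]
    simp
  · have h1 := hc g ⟨s, hsc⟩
    have h2 : χ (g * s) = χ g * (c ⟨s, hsc⟩ : ℂ) := h1
    rw [hs, h2, mul_comm]

variable {Z A W : Type u} [Group Z] [Group A] [Group W] [Finite W] {j : Z →* A} {i : A →* W} {lam : Z →* ℂˣ}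
  {x : A} {c : W}

theorem one_ne {G : Type u} [Group G] {χ : G → ℂ} [Finite G] (hχ : IsIrrCharacter G χ) : χ 1 ≠ 0 := by
  obtain ⟨n, hn, h⟩ := isIrr_apply_one hχ
  rw [h]
  exact_mod_cast hn.ne'

theorem over_iff (h : Pair j i) (χ : IrrCharacter W) (η : IrrCharacter A) (ht : Fintype A) (lam : Z →* ℂˣ)
    (hne : classInner (fun t => (χ : W → ℂ) (i t)) (η : A → ℂ) ≠ 0) :
    Over (i.comp j) lam (χ : W → ℂ) ↔ Over j lam (η : A → ℂ) := by
  have key : ∀ z : Z, ∃ ω : ℂ, (∀ w, (χ : W → ℂ) (i (j z) * w) = ω * (χ : W → ℂ) w) ∧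
      ∀ t, (η : A → ℂ) (j z * t) = ω * (η : A → ℂ) t := by
    intro z
    obtain ⟨ω, h1, h2⟩ := exists_scal χ.2 (s := i (j z)) (h.cen z)
    obtain ⟨ω', h1', h2'⟩ := exists_scal η.2 (s := j z) (fun t => h.ii (by rw [map_mul, map_mul, h.cen]))
    refine ⟨ω, h2, ?_⟩
    have h3' : ∑ t, (χ : W → ℂ) (i t) * conj ((η : A → ℂ) t) =
        (ω * conj ω') * ∑ t, (χ : W → ℂ) (i t) * conj ((η : A → ℂ) t) := by
      calc ∑ t, (χ : W → ℂ) (i t) * conj ((η : A → ℂ) t) =
          ∑ t, (χ : W → ℂ) (i (j z * t)) * conj ((η : A → ℂ) (j z * t)) :=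
            (Equiv.sum_comp (Equiv.mulLeft (j z)) (fun t => (χ : W → ℂ) (i t) * conj ((η : A → ℂ) t))).symm
        _ = (ω * conj ω') * ∑ t, (χ : W → ℂ) (i t) * conj ((η : A → ℂ) t) := by
            rw [Finset.mul_sum]
            refine Finset.sum_congr rfl fun t _ => ?_
            rw [map_mul i, h2, h2', map_mul]
            ring
    have h3 : classInner (fun t => (χ : W → ℂ) (i t)) (η : A → ℂ) =
        (ω * conj ω') * classInner (fun t => (χ : W → ℂ) (i t)) (η : A → ℂ) := by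
      rw [classInner_def]
      conv_lhs => rw [h3']
      ring
    have h4 : ω * conj ω' = 1 := by
      have h5 : (ω * conj ω' - 1) * classInner (fun t => (χ : W → ℂ) (i t)) (η : A → ℂ) = 0 := by
        rw [sub_mul, one_mul, ← h3, sub_self]
      have h6 := (mul_eq_zero.1 h5).resolve_right hne
      exact sub_eq_zero.1 h6
    have h5 : ω = ω' := by
      calc ω = ω * (conj ω' * ω') := by rw [h1', mul_one]
        _ = (ω * conj ω') * ω' := by ring
        _ = ω' := by rw [h4, one_mul]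
    rw [h5]
    exact h2'
  have hχ1 := one_ne χ.2
  have hA : Finite A := Finite.of_injective i h.ii
  have hη1 := one_ne η.2
  constructor
  · intro ho z t
    obtain ⟨ω, h1, h2⟩ := key z
    have h3 : (χ : W → ℂ) (i (j z) * 1) = (lam z : ℂ) * (χ : W → ℂ) 1 := ho z 1
    rw [h1] at h3
    rw [h2, mul_right_cancel₀ hχ1 h3]
  · intro ho z w
    obtain ⟨ω, h1, h2⟩ := key z
    have h3 := ho z 1
    rw [h2] at h3
    show (χ : W → ℂ) (i (j z) * w) = _
    rw [h1, mul_right_cancel₀ hη1 h3]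

section transport

variable (h : Pair j i)

/-- `A ≃ i(A)` -/
noncomputable def eqv : A ≃* i.range := MonoidHom.ofInjective h.ii

theorem coe_eqv (a : A) : ((eqv h a : i.range) : W) = i a := rfl

/-- transport of characters -/
noncomputable def tr : IrrCharacter i.range ≃ IrrCharacter A where
  toFun ψ := ⟨(ψ : i.range → ℂ) ∘ (eqv h), isIrr_comp (eqv h).toMonoidHom (eqv h).surjective ψ.2⟩
  invFun η := ⟨(η : A → ℂ) ∘ (eqv h).symm, isIrr_comp (eqv h).symm.toMonoidHom (eqv h).symm.surjective η.2⟩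
  left_inv ψ := Subtype.ext (funext fun n => congrArg (ψ : i.range → ℂ) ((eqv h).apply_symm_apply n))
  right_inv η := Subtype.ext (funext fun a => congrArg (η : A → ℂ) ((eqv h).symm_apply_apply a))

theorem tr_apply (ψ : IrrCharacter i.range) (a : A) : (tr h ψ : A → ℂ) a = (ψ : i.range → ℂ) (eqv h a) := rfl

include h in
theorem nrm : i.range.Normal := Subgroup.normal_of_index_eq_two h.idx

theorem inv_tr [i.range.Normal] (hc : c ∉ i.range) (ψ : IrrCharacter i.range) :
    Inv i c (tr h ψ : A → ℂ) ↔ McLTwo.Cliff.Inv i.range ψ := by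
  rw [inv_iff h.idx hc]
  constructor
  · intro h1
    funext n
    obtain ⟨a, rfl⟩ := (eqv h).surjective n
    obtain ⟨a', ha'⟩ := (eqv h).surjective ((MulAut.conjNormal c : MulAut i.range) (eqv h a))
    show (ψ : i.range → ℂ) ((MulAut.conjNormal c : MulAut i.range) (eqv h a)) = (ψ : i.range → ℂ) (eqv h a)
    rw [← ha']
    refine h1 a a' ?_
    rw [← coe_eqv h, ha', conj_eq, coe_eqv]
  · intro h1 a a' ha
    have h2 : eqv h a' = (MulAut.conjNormal c : MulAut i.range) (eqv h a) := Subtype.ext (by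
      rw [conj_eq, coe_eqv, coe_eqv, ha])
    show (ψ : i.range → ℂ) (eqv h a') = (ψ : i.range → ℂ) (eqv h a)
    rw [h2]
    exact congrFun h1 (eqv h a)

end transport

theorem res_cases (h : Pair j i) (hc : c ∉ i.range) (χ : IrrCharacter W) :
    (IsIrrCharacter A (fun t => (χ : W → ℂ) (i t)) ∧ Inv i c (fun t => (χ : W → ℂ) (i t))) ∨
    ((∀ w, w ∉ i.range → (χ : W → ℂ) w = 0) ∧ ∃ η η' : IrrCharacter A, η ≠ η' ∧
      (∀ t, (χ : W → ℂ) (i t) = (η : A → ℂ) t + (η' : A → ℂ) t) ∧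
      (∀ t t', i t' = c * i t * c⁻¹ → (η : A → ℂ) t' = (η' : A → ℂ) t) ∧ ¬ Inv i c (η : A → ℂ)) := by
  classical
  haveI := nrm h
  by_cases hv : Van i.range χ
  · refine Or.inr ⟨hv, ?_⟩
    obtain ⟨η, η', hne, hs, hi, hcj⟩ := van_split h.idx hv c
    have hcj' : (η : i.range → ℂ) ∘ (MulAut.conjNormal c : MulAut i.range) = η' :=
      hcj.resolve_left fun h1 => hi ((inv_iff h.idx hc).2 h1)
    refine ⟨tr h η, tr h η', fun h1 => hne ((tr h).injective h1), fun t => hs (eqv h t), fun t t' ht => ?_,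
      fun h1 => hi ((inv_tr h hc η).1 h1)⟩
    have h2 : eqv h t' = (MulAut.conjNormal c : MulAut i.range) (eqv h t) := Subtype.ext (by
      rw [conj_eq, coe_eqv, coe_eqv, ht])
    show (η : i.range → ℂ) (eqv h t') = (η' : i.range → ℂ) (eqv h t)
    rw [h2]
    exact congrFun hcj' (eqv h t)
  · refine Or.inl ⟨?_, ?_⟩
    · obtain ⟨ψ, -, hψ⟩ := restrict_of_not_van h.idx hv
      have h1 : (fun t => (χ : W → ℂ) (i t)) = (tr h ψ : A → ℂ) := funext fun t => hψ (eqv h t)
      rw [h1]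
      exact (tr h ψ).2
    · intro a a' ha
      show (χ : W → ℂ) (i a') = (χ : W → ℂ) (i a)
      rw [ha]
      exact isIrr_isClassFunction χ.2 _ _

theorem exists_ext (h : Pair j i) (hc : c ∉ i.range) (η : IrrCharacter A) (hη : Inv i c (η : A → ℂ)) :
    ∃ χ χ' : IrrCharacter W, χ ≠ χ' ∧ (∀ t, (χ : W → ℂ) (i t) = (η : A → ℂ) t) ∧ (∀ t, (χ' : W → ℂ) (i t) = (η : A → ℂ) t) ∧
      (∀ w, w ∉ i.range → (χ' : W → ℂ) w = - (χ : W → ℂ) w) ∧
      (∀ ψ : IrrCharacter W, (∀ t, (ψ : W → ℂ) (i t) = (η : A → ℂ) t) → ψ = χ ∨ ψ = χ') := by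
  classical
  haveI := nrm h
  have := Fintype.ofFinite W
  have := Fintype.ofFinite i.range
  have := finite_irr (G := W)
  have := Fintype.ofFinite (IrrCharacter W)
  obtain ⟨ψ, rfl⟩ := (tr h).surjective η
  obtain ⟨χ, χ', hne, -, -, hall⟩ := card_ext h.idx ((inv_tr h hc ψ).1 hη)
  have h1 := (hall χ).2 (Or.inl rfl)
  have h2 := (hall χ').2 (Or.inr rfl)
  refine ⟨χ, χ', hne, fun t => h1 (eqv h t), fun t => h2 (eqv h t), fun w hw => ?_, fun φ hφ => ?_⟩
  · rcases eq_or_of_restrict h.idx h1 h2 with h3 | h3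
    · exact absurd h3.symm hne
    · rw [h3, Pi.mul_apply, sg_of_notMem h.idx hw, mul_neg_one]
  · refine (hall φ).1 fun n => ?_
    obtain ⟨a, rfl⟩ := (eqv h).surjective n
    exact hφ a

theorem count_pair (h : Pair j i) (hc : c ∉ i.range) (lam : Z →* ℂˣ) (hcx : c * i x = i x * c) :
    2 * nz (i.comp j) lam (i x) =
      4 * Nat.card {η : IrrCharacter A // Over j lam (η : A → ℂ) ∧ (η : A → ℂ) x ≠ 0 ∧ Inv i c (η : A → ℂ)} +
      Nat.card {η : IrrCharacter A // Over j lam (η : A → ℂ) ∧ (η : A → ℂ) x ≠ 0 ∧ ¬ Inv i c (η : A → ℂ)} := by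
  classical
  haveI := nrm h
  haveI : Finite A := Finite.of_injective i h.ii
  have := Fintype.ofFinite A
  have := Fintype.ofFinite i.range
  have h0 := card_gen (W := W) (N := i.range) h.idx
    (fun χ => Over (i.comp j) lam (χ : W → ℂ) ∧ (χ : W → ℂ) (i x) ≠ 0)
    (fun ψ => Over j lam (tr h ψ : A → ℂ) ∧ (tr h ψ : A → ℂ) x ≠ 0) (by
      intro χ ψ hne
      have h1 : classInner (fun t => (χ : W → ℂ) (i t)) (tr h ψ : A → ℂ) ≠ 0 := by
        have h2 := classInner_comp_mulEquiv (eqv h) (fun n : i.range => (χ : W → ℂ) n) (ψ : i.range → ℂ)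
        rw [← h2] at hne
        exact hne
      rw [over_iff h χ (tr h ψ) inferInstance lam h1]
      refine and_congr_right fun _ => ?_
      by_cases hv : Van i.range χ
      · obtain ⟨η, η', hnn, hs, hi, hcj⟩ := van_split h.idx hv c
        have hcj' : (η : i.range → ℂ) ∘ (MulAut.conjNormal c : MulAut i.range) = η' :=
          hcj.resolve_left fun h1 => hi ((inv_iff h.idx hc).2 h1)
        have h3 : (η' : i.range → ℂ) (eqv h x) = (η : i.range → ℂ) (eqv h x) := by
          rw [← hcj']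
          show (η : i.range → ℂ) ((MulAut.conjNormal c : MulAut i.range) (eqv h x)) = _
          refine congrArg (η : i.range → ℂ) (Subtype.ext ?_)
          rw [conj_eq, coe_eqv, hcx, mul_inv_cancel_right]
        have h4 : (χ : W → ℂ) (i x) = 2 * (η : i.range → ℂ) (eqv h x) := by
          have h5 := hs (eqv h x)
          rw [h3] at h5
          rw [two_mul]
          exact h5
        have h5 : (ψ : i.range → ℂ) (eqv h x) = (η : i.range → ℂ) (eqv h x) := by
          have e1 : (fun n : i.range => (χ : W → ℂ) n) = (η : i.range → ℂ) + (η' : i.range → ℂ) := funext hs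
          rw [e1, classInner_add_left, classInner_irr η.2 ψ.2, classInner_irr η'.2 ψ.2] at hne
          by_cases h6 : (η : i.range → ℂ) = ψ
          · rw [h6]
          · by_cases h7 : (η' : i.range → ℂ) = ψ
            · rw [← h7, h3]
            · rw [if_neg h6, if_neg h7, add_zero] at hne
              exact absurd rfl hne
        rw [h4, tr_apply, h5]
        simp
      · obtain ⟨ζ, -, hζ⟩ := restrict_of_not_van h.idx hv
        have h3 : ζ = ψ := by
          by_contra hcon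
          apply hne
          rw [show (fun n : i.range => (χ : W → ℂ) n) = (ζ : i.range → ℂ) from funext hζ]
          exact classInner_irr_ne ζ.2 ψ.2 fun h4 => hcon (Subtype.ext h4)
        rw [tr_apply, ← h3, ← hζ]
        rfl)
  unfold nz
  rw [h0]
  congr 1
  · congr 1
    refine Nat.card_congr (Equiv.subtypeEquiv (tr h) fun ψ => ?_)
    rw [inv_tr h hc ψ, and_assoc]
  · refine Nat.card_congr (Equiv.subtypeEquiv (tr h) fun ψ => ?_)
    rw [inv_tr h hc ψ, and_assoc]

end Cfsg.Agent.H41.TI
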