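import Cfsg.Agent.H41.McLTwo.Cliff

/-!
# Clifford theory over a normal subgroup of index two (helper41, tasks 5084, 5827)

`card_gen` : the counting lemma with arbitrary predicates; `van_split` : characters vanishing off `N`.
-/

set_option autoImplicit false

open scoped ComplexConjugate
open Cfsg Cfsg.Agent.Characters.Core Cfsg.Agent.Characters.Clifford
open Cfsg.Agent.HKS.CosetTwo (sg sg_of_mem sg_of_notMem isIrr_mul_sg)
open Cfsg.Agent.H41.McLTwo.Cliff

namespace Cfsg.Agent.H41.TI

universe u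

variable {W : Type u} [Group W] [Finite W] {N : Subgroup W} [N.Normal]

/-- **Counting over a normal subgroup of index two.** -/
theorem card_gen [Fintype N] (hN : N.index = 2) (DW : IrrCharacter W → Prop) (DN : IrrCharacter N → Prop)
    (hD : ∀ (χ : IrrCharacter W) (ψ : IrrCharacter N),
      classInner (fun n : N => (χ : W → ℂ) n) (ψ : N → ℂ) ≠ 0 → (DW χ ↔ DN ψ)) :
    2 * Nat.card {χ : IrrCharacter W // DW χ} =
      4 * Nat.card {ψ : IrrCharacter N // DN ψ ∧ Inv N ψ} + Nat.card {ψ : IrrCharacter N // DN ψ ∧ ¬ Inv N ψ} := by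
  classical
  have := Fintype.ofFinite W
  have := finite_irr (G := W)
  have := Fintype.ofFinite (IrrCharacter W)
  have := finite_irr (G := N)
  have := Fintype.ofFinite (IrrCharacter N)
  have hD' : ∀ (χ : IrrCharacter W) (ψ : IrrCharacter N), (∀ n : N, (χ : W → ℂ) n = (ψ : N → ℂ) n) → (DW χ ↔ DN ψ) := by
    intro χ ψ h
    refine hD χ ψ ?_
    rw [show (fun n : N => (χ : W → ℂ) n) = (ψ : N → ℂ) from funext h, classInner_irr_self ψ.2]
    exact one_ne_zero
  -- the characters which do not vanish off `N`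
  have h1 := Finset.card_mul_eq_card_mul (fun (χ : IrrCharacter W) (ψ : IrrCharacter N) =>
      ∀ n : N, (χ : W → ℂ) n = (ψ : N → ℂ) n)
    (s := Finset.univ.filter fun χ : IrrCharacter W => DW χ ∧ ¬ Van N χ)
    (t := Finset.univ.filter fun ψ : IrrCharacter N => DN ψ ∧ Inv N ψ) (m := 1) (n := 2)
    (by
      intro χ hχ
      obtain ⟨-, hχD, hχv⟩ := Finset.mem_filter.1 hχ
      obtain ⟨ψ, hψ, hr⟩ := restrict_of_not_van hN hχv
      rw [Finset.card_eq_one]
      refine ⟨ψ, ?_⟩
      ext ζ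
      rw [Finset.mem_bipartiteAbove, Finset.mem_filter, Finset.mem_singleton]
      constructor
      · rintro ⟨-, h⟩
        apply Subtype.ext
        funext n
        rw [← h, hr]
      · rintro rfl
        exact ⟨⟨Finset.mem_univ _, (hD' χ ζ hr).1 hχD, hψ⟩, hr⟩)
    (by
      intro ψ hψ
      obtain ⟨-, hψD, hψi⟩ := Finset.mem_filter.1 hψ
      obtain ⟨χ, χ', hne, hv, hv', hall⟩ := card_ext hN hψi
      rw [Finset.card_eq_two]
      refine ⟨χ, χ', hne, ?_⟩
      ext η
      rw [Finset.mem_bipartiteBelow, Finset.mem_filter, Finset.mem_insert, Finset.mem_singleton]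
      constructor
      · rintro ⟨-, h⟩
        exact (hall η).1 h
      · intro h
        have hr := (hall η).2 h
        refine ⟨⟨Finset.mem_univ _, (hD' η ψ hr).2 hψD, ?_⟩, hr⟩
        rcases h with rfl | rfl
        · exact hv
        · exact hv')
  -- the characters which vanish off `N`
  have h2 := Finset.card_mul_eq_card_mul (fun (χ : IrrCharacter W) (ψ : IrrCharacter N) =>
      classInner (fun n : N => (χ : W → ℂ) n) (ψ : N → ℂ) ≠ 0)
    (s := Finset.univ.filter fun χ : IrrCharacter W => DW χ ∧ Van N χ)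
    (t := Finset.univ.filter fun ψ : IrrCharacter N => DN ψ ∧ ¬ Inv N ψ) (m := 2) (n := 1)
    (by
      intro χ hχ
      obtain ⟨-, hχD, hχv⟩ := Finset.mem_filter.1 hχ
      obtain ⟨η, η', hne, hi, hi', hd, hd', hall⟩ := two_of_van hN hχv
      rw [Finset.card_eq_two]
      refine ⟨η, η', hne, ?_⟩
      ext ζ
      rw [Finset.mem_bipartiteAbove, Finset.mem_filter, Finset.mem_insert, Finset.mem_singleton]
      constructor
      · rintro ⟨-, h⟩
        exact (hall ζ).1 h
      · intro h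
        refine ⟨⟨Finset.mem_univ _, (hD χ ζ ((hall ζ).2 h)).1 hχD, ?_⟩, (hall ζ).2 h⟩
        rcases h with rfl | rfl
        · exact hi
        · exact hi')
    (by
      intro ψ hψ
      obtain ⟨-, hψD, hψi⟩ := Finset.mem_filter.1 hψ
      obtain ⟨χ, hv, hne, hall⟩ := moved hN hψi
      rw [Finset.card_eq_one]
      refine ⟨χ, ?_⟩
      ext φ
      rw [Finset.mem_bipartiteBelow, Finset.mem_filter, Finset.mem_singleton]
      constructor
      · rintro ⟨⟨-, -, hφ⟩, h⟩
        exact hall φ hφ h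
      · rintro rfl
        exact ⟨⟨Finset.mem_univ _, (hD φ ψ hne).2 hψD, hv⟩, hne⟩)
  rw [mul_one] at h1 h2
  have h3 : Nat.card {χ : IrrCharacter W // DW χ} =
      (Finset.univ.filter fun χ : IrrCharacter W => DW χ ∧ ¬ Van N χ).card +
      (Finset.univ.filter fun χ : IrrCharacter W => DW χ ∧ Van N χ).card := by
    rw [Nat.card_eq_fintype_card, Fintype.card_subtype, ← Finset.filter_filter, ← Finset.filter_filter, add_comm]
    exact (Finset.card_filter_add_card_filter_not (s := Finset.univ.filter fun χ : IrrCharacter W =>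
      DW χ) (fun χ => Van N χ)).symm
  rw [h3, Nat.card_eq_fintype_card, Fintype.card_subtype, Nat.card_eq_fintype_card, Fintype.card_subtype]
  omega

/-- the characters vanishing off `N` -/
theorem van_split (hN : N.index = 2) {χ : IrrCharacter W} (hχ : Van N χ) (g : W) :
    ∃ η η' : IrrCharacter N, η ≠ η' ∧ (∀ n : N, (χ : W → ℂ) n = (η : N → ℂ) n + (η' : N → ℂ) n) ∧
      ¬ Inv N η ∧ ((η : N → ℂ) ∘ (MulAut.conjNormal g : MulAut N) = η ∨
        (η : N → ℂ) ∘ (MulAut.conjNormal g : MulAut N) = η') := by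
  classical
  have := Fintype.ofFinite W
  have := Fintype.ofFinite N
  obtain ⟨η, η', hne, -, hs⟩ := H348.PPD.IndexTwo.split_of_vanish N hN χ.2 hχ
  have hne' : (η : N → ℂ) ≠ (η' : N → ℂ) := fun h => hne (Subtype.ext h)
  have e1 : (fun n : N => (χ : W → ℂ) n) = (η : N → ℂ) + (η' : N → ℂ) := funext hs
  have hinv : ¬ Inv N η := by
    obtain ⟨ζ, ζ', -, hi, hi', -, -, hall⟩ := two_of_van hN hχ
    have h1 : classInner (fun n : N => (χ : W → ℂ) n) (η : N → ℂ) ≠ 0 := by
      rw [e1, classInner_add_left, classInner_irr_self η.2, classInner_irr η'.2 η.2, if_neg hne'.symm, add_zero]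
      exact one_ne_zero
    rcases (hall η).1 h1 with h | h
    · rw [h]; exact hi
    · rw [h]; exact hi'
  refine ⟨η, η', hne, hs, hinv, ?_⟩
  have hirr : IsIrrCharacter N ((η : N → ℂ) ∘ (MulAut.conjNormal g : MulAut N)) := isIrr_conjNormal η.2 g
  have hirr' : IsIrrCharacter N ((η' : N → ℂ) ∘ (MulAut.conjNormal g : MulAut N)) := isIrr_conjNormal η'.2 g
  have e2 : (η : N → ℂ) + (η' : N → ℂ) = (η : N → ℂ) ∘ (MulAut.conjNormal g : MulAut N) +
      (η' : N → ℂ) ∘ (MulAut.conjNormal g : MulAut N) := by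
    funext n
    show (η : N → ℂ) n + (η' : N → ℂ) n = (η : N → ℂ) ((MulAut.conjNormal g : MulAut N) n) +
      (η' : N → ℂ) ((MulAut.conjNormal g : MulAut N) n)
    rw [← hs, ← hs, restrict_conj]
  have e3 := congrArg (fun f => classInner f ((η : N → ℂ) ∘ (MulAut.conjNormal g : MulAut N))) e2
  simp only [classInner_add_left] at e3
  rw [classInner_irr_self hirr, classInner_irr η.2 hirr, classInner_irr η'.2 hirr, classInner_irr hirr' hirr] at e3
  by_cases h1 : (η : N → ℂ) = (η : N → ℂ) ∘ (MulAut.conjNormal g : MulAut N)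
  · exact Or.inl h1.symm
  · by_cases h2 : (η' : N → ℂ) = (η : N → ℂ) ∘ (MulAut.conjNormal g : MulAut N)
    · exact Or.inr h2.symm
    · exfalso
      rw [if_neg h1, if_neg h2] at e3
      split_ifs at e3 <;> norm_num at e3

omit [Finite W] in
/-- every element is inner times `1` or `g` -/
theorem inner_or (hN : N.index = 2) {g : W} (hg : g ∉ N) (x : W) : (∃ s : N, x = s) ∨ ∃ s : N, x = s * g := by
  by_cases hx : x ∈ N
  · exact Or.inl ⟨⟨x, hx⟩, rfl⟩
  · refine Or.inr ⟨⟨x * g⁻¹, ?_⟩, by simp⟩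
    rw [Subgroup.mul_mem_iff_of_index_two hN]
    exact ⟨fun h => absurd h hx, fun h => absurd (inv_mem_iff.1 h) hg⟩

theorem cf_isConj {G : Type u} [Group G] {φ : G → ℂ} (h : IsClassFunction G φ) {a b : G} (hab : IsConj a b) :
    φ a = φ b := by
  obtain ⟨g, rfl⟩ := isConj_iff.1 hab
  exact (h a g).symm

omit [Finite W] in
theorem conj_eq (g : W) (y : N) : (((MulAut.conjNormal g : MulAut N) y : N) : W) = g * y * g⁻¹ :=
  MulAut.conjNormal_apply g y

omit [Finite W] in
/-- invariance is tested on one element -/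
theorem inv_iff (hN : N.index = 2) {g : W} (hg : g ∉ N) {ψ : IrrCharacter N} :
    Inv N ψ ↔ (ψ : N → ℂ) ∘ (MulAut.conjNormal g : MulAut N) = ψ := by
  refine ⟨fun h => h g, fun h x => ?_⟩
  funext y
  show (ψ : N → ℂ) ((MulAut.conjNormal x : MulAut N) y) = (ψ : N → ℂ) y
  rcases inner_or hN hg x with ⟨s, rfl⟩ | ⟨s, rfl⟩
  · refine cf_isConj (isIrr_isClassFunction ψ.2) (isConj_iff.2 ⟨s⁻¹, Subtype.ext ?_⟩)
    rw [Subgroup.coe_mul, Subgroup.coe_mul, conj_eq, Subgroup.coe_inv]
    group
  · refine Eq.trans ?_ (congrFun h y)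
    refine cf_isConj (isIrr_isClassFunction ψ.2) (isConj_iff.2 ⟨s⁻¹, Subtype.ext ?_⟩)
    rw [Subgroup.coe_mul, Subgroup.coe_mul, conj_eq, conj_eq, Subgroup.coe_inv]
    group

end Cfsg.Agent.H41.TI
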